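import Groth.Agent.L28.GmH1.Iff
import Groth.Prelude.Def_Dix
import Groth.Prelude.Def_EtLim
import Mathlib.RingTheory.Etale.Field
import Mathlib.AlgebraicGeometry.ResidueField

/-!
Direct image of the multiplicative group from a point.
-/

set_option autoImplicit false
set_option linter.style.haveILetI false
set_option linter.unusedSectionVars false
set_option backward.isDefEq.respectTransparency.types false

universe u

open CategoryTheory CategoryTheory.Limits AlgebraicGeometry Opposite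
open Groth.L27.LimCoh (secEq secEq_map secEq_HofPush δH exists_δH exists_map_of_δH_eq_zero δH_map_g Hpull_δH map_δH
  eq_zero_of_injective HofPush_map)

namespace Groth.L28.GmH1

theorem finite_maximalSpectrum_etale {K : Type u} [Field K] {Z : Scheme.{u}} [IsAffine Z]
    (h : Z ⟶ Spec (CommRingCat.of K)) [AlgebraicGeometry.Etale h] : Finite (MaximalSpectrum Γ(Z, ⊤)) := by
  let φ : Γ(Spec (CommRingCat.of K), ⊤) →+* Γ(Z, ⊤) := h.appTop.hom
  have hφ : RingHom.Etale φ := HasRingHomProperty.appTop @AlgebraicGeometry.Etale h ‹_›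
  let e : K ≃+* Γ(Spec (CommRingCat.of K), ⊤) := (Scheme.ΓSpecIso (CommRingCat.of K)).symm.commRingCatIsoToRingEquiv
  have hψ : RingHom.Etale (φ.comp e.toRingHom) := RingHom.Etale.respectsIso.2 φ e hφ
  letI := (φ.comp e.toRingHom).toAlgebra
  haveI : Algebra.Etale K Γ(Z, ⊤) := hψ
  haveI := Algebra.FormallyUnramified.finite_of_free K Γ(Z, ⊤)
  haveI : IsArtinianRing Γ(Z, ⊤) := .of_finite K _
  infer_instance

variable {X Y : Scheme.{u}} (i : Y ⟶ X)

instance preservesFiniteLimits_push : PreservesFiniteLimits (EtCoh.push i) :=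
  haveI : PreservesLimitsOfSize.{0, 0} (EtCoh.push i) := (EtCoh.pullPushAdj i).rightAdjoint_preservesLimits
  PreservesLimitsOfSize.preservesFiniteLimits _

theorem push_additive : (EtCoh.push i).Additive := (EtCoh.pullPushAdj i).right_adjoint_additive

section Degree

variable [PreservesFiniteLimits (EtCoh.pull i)]

theorem HF_id (F : EtCoh.Ab X) (n : ℕ) (z : EtCoh.H X F n) : (EtCoh.HF X n).map (𝟙 F) z = z :=
  congrArg (fun k => k.hom z) ((EtCoh.HF X n).map_id F)

theorem injective_push (F : EtCoh.Ab Y) [Injective F] : Injective ((EtCoh.push i).obj F) :=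
  Injective.injective_of_adjoint (EtCoh.pullPushAdj i) F

/-- the push of a short complex receives the pull of a short exact one -/
theorem HofPush_δH {S : ShortComplex (EtCoh.Ab X)} (hS : S.ShortExact) {T : ShortComplex (EtCoh.Ab Y)}
    (hT : T.ShortExact) (a₁ : S.X₁ ⟶ (EtCoh.push i).obj T.X₁) (a₂ : S.X₂ ⟶ (EtCoh.push i).obj T.X₂)
    (a₃ : S.X₃ ⟶ (EtCoh.push i).obj T.X₃) (h₁ : S.f ≫ a₂ = a₁ ≫ (EtCoh.push i).map T.f)
    (h₂ : S.g ≫ a₃ = a₂ ≫ (EtCoh.push i).map T.g) (n : ℕ) (y : EtCoh.H X S.X₃ n) :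
    EtLim.HofPush i T.X₁ (n + 1) ((EtCoh.HF X (n + 1)).map a₁ (δH hS n y)) =
      δH hT n (EtLim.HofPush i T.X₃ n ((EtCoh.HF X n).map a₃ y)) := by
  let A := EtCoh.pullPushAdj i
  let Φ : S.map (EtCoh.pull i) ⟶ T :=
    { τ₁ := (A.homEquiv _ _).symm a₁
      τ₂ := (A.homEquiv _ _).symm a₂
      τ₃ := (A.homEquiv _ _).symm a₃
      comm₁₂ := by
        show (A.homEquiv _ _).symm a₁ ≫ T.f = (EtCoh.pull i).map S.f ≫ (A.homEquiv _ _).symm a₂
        rw [← A.homEquiv_naturality_left_symm, ← A.homEquiv_naturality_right_symm, h₁]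
      comm₂₃ := by
        show (A.homEquiv _ _).symm a₂ ≫ T.g = (EtCoh.pull i).map S.g ≫ (A.homEquiv _ _).symm a₃
        rw [← A.homEquiv_naturality_left_symm, ← A.homEquiv_naturality_right_symm, h₂] }
  have key : ∀ {F : EtCoh.Ab X} {G : EtCoh.Ab Y} (a : F ⟶ (EtCoh.push i).obj G) (m : ℕ) (z : EtCoh.H X F m),
      EtLim.HofPush i G m ((EtCoh.HF X m).map a z) =
        EtLim.HpullThen i F ((A.homEquiv _ _).symm a) m z := fun a m z => by
    rw [Groth.L27.LimCoh.HpullThen_eq, Equiv.apply_symm_apply]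
  rw [key, key]
  exact Groth.L27.LimCoh.HpullThen_δH i hS hT Φ n y

/-- degree one is injective -/
theorem injective_HofPush_one (F : EtCoh.Ab Y) : Function.Injective (EtLim.HofPush i F 1) := by
  rw [injective_iff_map_eq_zero]
  intro c hc
  haveI := push_additive i
  let j : (EtCoh.push i).obj F ⟶ (EtCoh.push i).obj (Injective.under F) := (EtCoh.push i).map (Injective.ι F)
  haveI : Mono j := inferInstanceAs (Mono ((EtCoh.push i).map (Injective.ι F)))
  haveI : Injective ((EtCoh.push i).obj (Injective.under F)) := injective_push i _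
  let T : ShortComplex (EtCoh.Ab Y) := ShortComplex.mk (Injective.ι F) (cokernel.π _) (cokernel.condition _)
  have hT : T.ShortExact :=
    { exact := ShortComplex.exact_of_g_is_cokernel _ (cokernelIsCokernel _)
      mono_f := inferInstanceAs (Mono (Injective.ι F))
      epi_g := inferInstanceAs (Epi (cokernel.π (Injective.ι F))) }
  let S : ShortComplex (EtCoh.Ab X) := ShortComplex.mk j (cokernel.π j) (cokernel.condition _)
  have hS : S.ShortExact :=
    { exact := ShortComplex.exact_of_g_is_cokernel _ (cokernelIsCokernel _)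
      mono_f := ‹Mono j›
      epi_g := inferInstanceAs (Epi (cokernel.π j)) }
  have hex : (T.map (EtCoh.push i)).Exact := hT.exact.map_of_mono_of_preservesKernel _ hT.mono_f inferInstance
  let a₃ : S.X₃ ⟶ (EtCoh.push i).obj T.X₃ := cokernel.desc j ((EtCoh.push i).map T.g) (T.map (EtCoh.push i)).zero
  haveI : Mono a₃ := by
    refine Preadditive.mono_of_cancel_zero _ fun {G} z hz => ?_
    obtain ⟨G', π, hπ, z', hz'⟩ := surjective_up_to_refinements_of_epi (cokernel.π j) z
    have hz0 : z' ≫ (T.map (EtCoh.push i)).g = 0 := by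
      show z' ≫ (EtCoh.push i).map T.g = 0
      rw [← cokernel.π_desc j ((EtCoh.push i).map T.g) (T.map (EtCoh.push i)).zero, ← Category.assoc]
      exact (congrArg (· ≫ a₃) hz'.symm).trans ((Category.assoc _ _ _).trans (by rw [hz, comp_zero]))
    obtain ⟨G'', π', hπ', w', hw'⟩ := hex.exact_up_to_refinements z' hz0
    haveI := hπ
    haveI := hπ'
    refine (cancel_epi (π' ≫ π)).1 ?_
    rw [Category.assoc, hz', comp_zero, ← Category.assoc]
    exact (congrArg (· ≫ cokernel.π j) hw').trans ((Category.assoc _ _ _).trans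
      ((congrArg (w' ≫ ·) (cokernel.condition j)).trans comp_zero))
  obtain ⟨y, rfl⟩ := exists_δH hS 0 c (eq_zero_of_injective _ 0 _)
  have h := HofPush_δH i hS hT (𝟙 _) (𝟙 _) a₃ ((Category.comp_id _).trans (Category.id_comp _).symm)
    ((cokernel.π_desc _ _ _).trans (Category.id_comp _).symm) 0 y
  rw [show (EtCoh.HF X 1).map (𝟙 S.X₁) (δH hS 0 y) = δH hS 0 y from
    congrArg (fun k => k.hom (δH hS 0 y)) ((EtCoh.HF X 1).map_id _)] at h
  obtain ⟨z, hz⟩ := exists_map_of_δH_eq_zero hT 0 _ (h.symm.trans hc)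
  let u : (EtCoh.Ab Y) := T.X₂
  let z' : ((EtCoh.push i).obj T.X₂).obj.obj (op (EtCoh.top X)) :=
    T.X₂.obj.map (EtCore.bcTopIso i).hom.op (secEq T.X₂ z)
  have e : y = (EtCoh.HF X 0).map S.g ((secEq _).symm z') := by
    refine (secEq S.X₃).injective (((AddCommGrpCat.mono_iff_injective (a₃.hom.app (op (EtCoh.top X)))).1 (inferInstanceAs
      (Mono ((sheafToPresheaf _ _ ⋙ (evaluation _ _).obj (op (EtCoh.top X))).map a₃)))) ?_)
    show a₃.hom.app _ (secEq S.X₃ y) = a₃.hom.app _ _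
    rw [secEq_map, AddEquiv.apply_symm_apply]
    have hg : S.g ≫ a₃ = (EtCoh.push i).map T.g := cokernel.π_desc _ _ _
    refine Eq.trans ?_ (congrArg (fun k : S.X₂ ⟶ (EtCoh.push i).obj T.X₃ => k.hom.app (op (EtCoh.top X)) z') hg).symm
    have e1 := congrArg (secEq T.X₃) hz
    rw [secEq_map, secEq_HofPush, secEq_map] at e1
    show _ = T.g.hom.app (op ((EtCoh.bc i).obj (EtCoh.top X))) (T.X₂.obj.map (EtCore.bcTopIso i).hom.op (secEq T.X₂ z))
    rw [NatTrans.naturality_apply T.g.hom, e1]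
    refine Eq.trans ?_ (Functor.map_comp_apply T.X₃.obj _ _ _)
    rw [← op_comp, Iso.hom_inv_id, op_id, T.X₃.obj.map_id, ConcreteCategory.id_apply]
  rw [e]
  exact δH_map_g hS 0 _

end Degree

section Point

variable {K : Type u} [Field K] (i : Spec (CommRingCat.of K) ⟶ X)
  (haff : ∀ (W : X.Opens), IsAffineOpen W → IsAffine (i ⁻¹ᵁ W).toScheme)

include haff

theorem epi_push_map {I Q : EtCoh.Ab (Spec (CommRingCat.of K))} {f : EtCoh.Gm _ ⟶ I} {g : I ⟶ Q} {w : f ≫ g = 0}
    (hS : (ShortComplex.mk f g w).ShortExact) : Epi ((EtCoh.push i).map g) := by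
  refine (Sheaf.isLocallySurjective_iff_epi' AddCommGrpCat.{u + 1} _).mp ⟨fun {V} t => ?_⟩
  refine (Groth.L27.EtSite.mem_topology_iff _).2 fun v => ?_
  obtain ⟨W, hW, hvW, -⟩ := exists_isAffineOpen_mem_and_subset (U := (⊤ : X.Opens)) (x := V.hom v) trivial
  obtain ⟨O, hO, hvO, hOW⟩ := exists_isAffineOpen_mem_and_subset (U := V.hom ⁻¹ᵁ W) (x := v) hvW
  haveI : AlgebraicGeometry.Etale V.hom := V.prop
  let V' : X.Etale := MorphismProperty.Over.mk ⊤ (O.ι ≫ V.hom) (inferInstanceAs (AlgebraicGeometry.Etale (O.ι ≫ V.hom)))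
  let j : V' ⟶ V := MorphismProperty.Over.homMk O.ι rfl
  have hT : IsAffine ((EtCoh.bc i).obj V').left := by
    show IsAffine (pullback (O.ι ≫ V.hom) i)
    let r : O.toScheme ⟶ W.toScheme := V.hom.resLE W O hOW
    have hr : r ≫ W.ι = O.ι ≫ V.hom := Scheme.Hom.resLE_comp_ι _ _
    haveI := haff W hW
    haveI : IsAffine W.toScheme := hW
    haveI : IsAffine O.toScheme := hO
    haveI : IsAffine (pullback r (i ∣_ W)) := inferInstance
    have P : IsPullback (pullback.fst r (i ∣_ W)) (pullback.snd r (i ∣_ W) ≫ (i ⁻¹ᵁ W).ι) (O.ι ≫ V.hom) i := by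
      have := (IsPullback.of_hasPullback r (i ∣_ W)).paste_vert (isPullback_morphismRestrict i W)
      rwa [hr] at this
    exact IsAffine.of_isIso P.isoPullback.inv
  let Z : Scheme.{u} := ((EtCoh.bc i).obj V').left
  let h : Z ⟶ Spec (CommRingCat.of K) := ((EtCoh.bc i).obj V').hom
  haveI hZ : IsAffine Z := hT
  haveI : AlgebraicGeometry.Etale h := ((EtCoh.bc i).obj V').prop
  haveI := finite_maximalSpectrum_etale h
  have hpic : Subsingleton (CommRing.Pic Γ(Z, ⊤)) := inferInstance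
  obtain ⟨s, hs⟩ := @exists_lift_of_pic _ _ _ _ _ _ hS ((EtCoh.bc i).obj V') hT (Q.obj.map ((EtCoh.bc i).map j).op t) hpic
  exact ⟨V', j, ⟨v, hvO⟩, ⟨s, hs⟩, rfl⟩

variable [PreservesFiniteLimits (EtCoh.pull i)]

theorem push_Gm :
    Subsingleton (EtCoh.H X ((EtCoh.push i).obj (EtCoh.Gm (Spec (CommRingCat.of K)))) 1) ∧
      Function.Injective (EtLim.HofPush i (EtCoh.Gm (Spec (CommRingCat.of K))) 2) := by
  haveI : IsLocalRing Γ(Spec (CommRingCat.of K), ⊤) :=
    (Scheme.ΓSpecIso (CommRingCat.of K)).symm.commRingCatIsoToRingEquiv.isLocalRing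
  refine ⟨subsingleton_of_forall_eq 0 fun c => injective_HofPush_one i _ ((eq_zero_of_pic _).trans (map_zero _).symm), ?_⟩
  rw [injective_iff_map_eq_zero]
  intro c hc
  obtain ⟨I, Q, f, g, w, hI, hS⟩ := exists_embedding (X := Spec (CommRingCat.of K))
  haveI := push_additive i
  haveI := epi_push_map i haff hS
  have hS' : ((ShortComplex.mk f g w).map (EtCoh.push i)).ShortExact :=
    { exact := hS.exact.map_of_mono_of_preservesKernel _ hS.mono_f inferInstance
      mono_f := haveI := hS.mono_f; inferInstanceAs (Mono ((EtCoh.push i).map f))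
      epi_g := inferInstanceAs (Epi ((EtCoh.push i).map g)) }
  haveI : Injective ((EtCoh.push i).obj I) := injective_push i I
  obtain ⟨y, rfl⟩ := exists_δH hS' 1 c (eq_zero_of_injective ((EtCoh.push i).obj I) 1 _)
  have h := HofPush_δH i hS' hS (𝟙 _) (𝟙 _) (𝟙 _) ((Category.comp_id _).trans (Category.id_comp _).symm)
    ((Category.comp_id _).trans (Category.id_comp _).symm) 1 y
  have h' : EtLim.HofPush i (EtCoh.Gm (Spec (CommRingCat.of K))) 2 (δH hS' 1 y) = δH hS 1 (EtLim.HofPush i Q 1 y) :=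
    ((congrArg (EtLim.HofPush i (EtCoh.Gm (Spec (CommRingCat.of K))) 2) (HF_id _ _ _)).symm.trans h).trans
      (congrArg (fun q => δH hS 1 (EtLim.HofPush i Q 1 q)) (HF_id _ _ _))
  obtain ⟨z, hz⟩ := exists_map_of_δH_eq_zero hS 1 _ (h'.symm.trans hc)
  have hy0 : EtLim.HofPush i Q 1 y = EtLim.HofPush i Q 1 0 :=
    hz.symm.trans ((congrArg ((EtCoh.HF _ 1).map g) (eq_zero_of_injective I 0 z)).trans
      ((map_zero ((EtCoh.HF _ 1).map g).hom).trans (map_zero (EtLim.HofPush i Q 1)).symm))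
  exact (congrArg (δH hS' 1) (injective_HofPush_one i Q hy0)).trans (map_zero _)

end Point

theorem isAffine_preimage_point {K : Type u} [Field K] (i : Spec (CommRingCat.of K) ⟶ X) (W : X.Opens) :
    IsAffine (i ⁻¹ᵁ W).toScheme := by
  rcases isEmpty_or_nonempty (i ⁻¹ᵁ W).toScheme with h | ⟨⟨p, hp⟩⟩
  · infer_instance
  · rw [show i ⁻¹ᵁ W = ⊤ from TopologicalSpace.Opens.ext (Set.eq_univ_of_forall fun q =>
      Subsingleton.elim (α := PrimeSpectrum K) p q ▸ hp)]
    exact isAffineOpen_top _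

end Groth.L28.GmH1
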