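import Groth.Agent.L28.GmH1.Assoc

/-!
Triviality of invertible modules and vanishing of first cohomology of the multiplicative group.
-/

set_option autoImplicit false
set_option linter.style.haveILetI false
set_option linter.unusedSectionVars false
set_option backward.isDefEq.respectTransparency.types false

universe u

open CategoryTheory CategoryTheory.Limits AlgebraicGeometry Opposite
open Groth.L27.LimCoh (secEq secEq_map δH exists_δH exists_map_of_δH_eq_zero δH_map_g eq_zero_of_injective)

namespace Groth.L28.GmH1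

variable {X : Scheme.{u}} {I Q : EtCoh.Ab X} {f : EtCoh.Gm X ⟶ I} {g : I ⟶ Q} {w : f ≫ g = 0}

theorem δ_eq_zero_iff (hS : (ShortComplex.mk f g w).ShortExact) (t : Q.obj.obj (op (EtCoh.top X))) :
    δH hS 0 ((secEq Q).symm t) = 0 ↔ ∃ z, g.hom.app (op (EtCoh.top X)) z = t := by
  constructor
  · intro h
    obtain ⟨z, hz⟩ := exists_map_of_δH_eq_zero hS 0 _ h
    exact ⟨secEq I z, (secEq_map g z).symm.trans ((congrArg (secEq Q) hz).trans ((secEq Q).apply_symm_apply t))⟩
  · rintro ⟨z, rfl⟩
    rw [show (secEq Q).symm (g.hom.app _ z) = (EtCoh.HF X 0).map g ((secEq I).symm z) from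
      (secEq Q).injective (by rw [secEq_map, AddEquiv.apply_symm_apply, AddEquiv.apply_symm_apply])]
    exact δH_map_g hS 0 _

theorem subsingleton_iff (X : Scheme.{u}) :
    Subsingleton (EtCoh.H X (EtCoh.Gm X) 1) ↔
      ∀ L : X.Modules, PicF.IsInvertible L → Nonempty (L ≅ Coh.structureModule X) := by
  obtain ⟨I, Q, f, g, w, hI, hS⟩ := exists_embedding (X := X)
  constructor
  · intro h L hL
    obtain ⟨t, ht⟩ := exists_assoc_section (w := w) L hL
    obtain ⟨z, hz⟩ := (δ_eq_zero_iff hS t).1 (@Subsingleton.elim _ h _ _)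
    refine ((exists_iff_iso hS (assoc_zero (f := f) (g := g)) ht).1 ⟨z, by rw [sub_zero, hz]⟩).map Iso.symm
  · intro h
    refine subsingleton_of_forall_eq 0 fun c => ?_
    obtain ⟨y, rfl⟩ := exists_δH hS 0 c (eq_zero_of_injective I 0 _)
    obtain ⟨L, hL, hA⟩ := exists_assoc_module hS (secEq Q y)
    obtain ⟨z, hz⟩ := (exists_iff_iso hS (assoc_zero (f := f) (g := g)) hA).2 ((h L hL).map Iso.symm)
    rw [← (secEq Q).symm_apply_apply y]
    exact (δ_eq_zero_iff hS _).2 ⟨z, by rw [hz, sub_zero]⟩

end Groth.L28.GmH1
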