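import Mathlib.RingTheory.Flat.FaithfullyFlat.Algebra
import Mathlib.RingTheory.PicardGroup
import Mathlib.LinearAlgebra.TensorProduct.Finiteness
import Mathlib.LinearAlgebra.TensorProduct.Quotient
import Mathlib.RingTheory.Localization.Basic

/-!
Invertible submodules of faithfully flat algebras.
-/

set_option autoImplicit false
set_option linter.style.haveILetI false
set_option linter.unusedSectionVars false

universe u

open TensorProduct

namespace Groth.L28.GmH1

variable {R B : Type u} [CommRing R] [CommRing B] [Algebra R B]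

/-- a tensor vanishing at a prime of the algebra is killed by a scalar off the prime below -/
theorem exists_smul_eq_zero [Module.Flat R B] {N : Type u} [AddCommGroup N] [Module R N] (c : N) (b : B)
    (Q : Ideal B) (hb : b ∉ Q) (h : c ⊗ₜ[R] b = 0) : ∃ r : R, algebraMap R B r ∉ Q ∧ r • c = 0 := by
  let I : Ideal R := LinearMap.ker (LinearMap.toSpanSingleton R N c)
  let ι : R ⧸ I →ₗ[R] N := Submodule.liftQ I (LinearMap.toSpanSingleton R N c) le_rfl
  have hι : Function.Injective ι := LinearMap.ker_eq_bot.1 (Submodule.ker_liftQ_eq_bot _ _ _ le_rfl)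
  have h1 : (Ideal.Quotient.mk I 1 : R ⧸ I) ⊗ₜ[R] b = 0 := by
    refine Module.Flat.rTensor_preserves_injective_linearMap ι hι ?_
    rw [map_zero, LinearMap.rTensor_tmul]
    exact (congrArg (· ⊗ₜ[R] b) (one_smul R c)).trans h
  have h2 : b ∈ I • (⊤ : Submodule R B) := by
    have := congrArg (TensorProduct.quotTensorEquivQuotSMul B I) h1
    rw [map_zero, TensorProduct.quotTensorEquivQuotSMul_mk_tmul, one_smul, Submodule.Quotient.mk_eq_zero] at this
    exact this
  by_contra hne
  push_neg at hne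
  refine hb ?_
  refine Submodule.smul_induction_on h2 (fun r hr x _ => ?_) (fun x y hx hy => Q.add_mem hx hy)
  rw [Algebra.smul_def]
  exact Q.mul_mem_right _ (by_contra fun hr' => hne r hr' (LinearMap.mem_ker.1 hr))

variable (M : Submodule R B)

/-- multiplication -/
noncomputable def mulMap : M ⊗[R] B →ₗ[R] B :=
  TensorProduct.lift ((LinearMap.mul R B).comp M.subtype)

theorem mulMap_tmul (m : M) (b : B) : mulMap M (m ⊗ₜ[R] b) = m * b := rfl

/-- multiplication identifies the base change with the algebra -/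
theorem exists_local_gen [Module.FaithfullyFlat R B] (hM : Function.Bijective (mulMap M)) (q : Ideal R) [q.IsPrime] :
    ∃ (m : M) (b : B) (f : R), f ∉ q ∧ (m : B) * b = algebraMap R B f ∧ ∀ m' : M, ∃ r : R, f • m' = r • m := by
  classical
  obtain ⟨Q, hQ⟩ := PrimeSpectrum.comap_surjective_of_faithfullyFlat (A := R) (B := B) ⟨q, ‹_›⟩
  have hQq : ∀ r : R, algebraMap R B r ∉ Q.asIdeal → r ∉ q := fun r hr hrq => hr <| by
    have := congrArg PrimeSpectrum.asIdeal hQ
    rw [← show Q.asIdeal.comap (algebraMap R B) = q from this] at hrq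
    exact hrq
  obtain ⟨t, ht⟩ := hM.2 1
  obtain ⟨S, hS⟩ := TensorProduct.exists_finset t
  have h1 : ∑ i ∈ S, (i.1 : B) * i.2 = 1 := by rw [← ht, hS, map_sum]; rfl
  obtain ⟨i₀, hi₀, hm⟩ : ∃ i ∈ S, (i.1 : B) ∉ Q.asIdeal := by
    by_contra! hall
    refine Q.isPrime.ne_top ((Ideal.eq_top_iff_one _).2 ?_)
    rw [← h1]
    exact Ideal.sum_mem _ fun i hi => Q.asIdeal.mul_mem_right _ (hall i hi)
  have key : ∀ m' : M, ∃ f : R, algebraMap R B f ∉ Q.asIdeal ∧ ∃ r : R, f • m' = r • i₀.1 := fun m' => by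
    let N : Submodule R M := R ∙ i₀.1
    have h : (N.mkQ m') ⊗ₜ[R] (i₀.1 : B) = 0 := by
      have e : m' ⊗ₜ[R] (i₀.1 : B) = i₀.1 ⊗ₜ[R] (m' : B) := hM.1 (by rw [mulMap_tmul, mulMap_tmul, mul_comm])
      have e' := congrArg (LinearMap.rTensor B N.mkQ) e
      rw [LinearMap.rTensor_tmul, LinearMap.rTensor_tmul, show N.mkQ i₀.1 = 0 from
        (Submodule.Quotient.mk_eq_zero N).2 (Submodule.mem_span_singleton_self _), zero_tmul] at e'
      exact e'
    obtain ⟨f, hf, hfm⟩ := exists_smul_eq_zero _ _ _ hm h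
    rw [← map_smul, Submodule.mkQ_apply, Submodule.Quotient.mk_eq_zero, Submodule.mem_span_singleton] at hfm
    obtain ⟨r, hr⟩ := hfm
    exact ⟨f, hf, r, hr.symm⟩
  let N : Submodule R M := Submodule.span R (S.image Prod.fst : Set M)
  have hN : N = ⊤ := by
    refine eq_top_iff.2 fun m' _ => ?_
    let I : Ideal R := N.colon {m'}
    suffices hI : I = ⊤ by
      have h1' : (1 : R) ∈ I := hI ▸ trivial
      rw [Submodule.mem_colon_singleton, one_smul] at h1'
      exact h1'
    by_contra hI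
    obtain ⟨q', hq', hIq⟩ := I.exists_le_maximal hI
    obtain ⟨Q', hQ'⟩ := PrimeSpectrum.comap_surjective_of_faithfullyFlat (A := R) (B := B) ⟨q', hq'.isPrime⟩
    have h : (N.mkQ m') ⊗ₜ[R] (1 : B) = 0 := by
      let t' : M ⊗[R] B := ∑ i ∈ S, i.1 ⊗ₜ[R] (i.2 * (m' : B))
      have e : m' ⊗ₜ[R] (1 : B) = t' := hM.1 (by
        rw [mulMap_tmul, mul_one, map_sum]
        simp only [mulMap_tmul, ← mul_assoc]
        rw [← Finset.sum_mul, h1, one_mul])
      have e' := congrArg (LinearMap.rTensor B N.mkQ) e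
      rw [LinearMap.rTensor_tmul, map_sum, Finset.sum_eq_zero fun i hi => by
        rw [LinearMap.rTensor_tmul, show N.mkQ i.1 = 0 from (Submodule.Quotient.mk_eq_zero N).2
          (Submodule.subset_span (Finset.mem_coe.2 (Finset.mem_image_of_mem _ hi))), zero_tmul]] at e'
      exact e'
    obtain ⟨r, hr, hrm⟩ := exists_smul_eq_zero _ _ Q'.asIdeal
      (fun h => Q'.isPrime.ne_top ((Ideal.eq_top_iff_one _).2 h)) h
    rw [← map_smul, Submodule.mkQ_apply, Submodule.Quotient.mk_eq_zero] at hrm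
    refine hr ?_
    have := hIq (Submodule.mem_colon_singleton.2 hrm)
    rw [← show Q'.asIdeal.comap (algebraMap R B) = q' from congrArg PrimeSpectrum.asIdeal hQ'] at this
    exact this
  choose f hf r hr using key
  let F : R := ∏ i ∈ S, f i.1
  have hF : ∀ m' : M, ∃ r : R, F • m' = r • i₀.1 := fun m' => by
    have hmem : m' ∈ N := hN ▸ trivial
    refine Submodule.span_induction ?_ ⟨0, by simp⟩ (fun x y _ _ ⟨a, ha⟩ ⟨b, hb⟩ => ⟨a + b, by rw [smul_add, ha, hb, add_smul]⟩)
      (fun c x _ ⟨a, ha⟩ => ⟨c * a, by rw [smul_comm, ha, smul_smul]⟩) hmem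
    intro x hx
    obtain ⟨i, hi, rfl⟩ := Finset.mem_image.1 (Finset.mem_coe.1 hx)
    refine ⟨(∏ j ∈ S.erase i, f j.1) * r i.1, ?_⟩
    rw [← smul_smul, ← hr, smul_smul, Finset.prod_erase_mul S (fun j => f j.1) hi]
  choose g hg using hF
  refine ⟨i₀.1, ∑ i ∈ S, algebraMap R B (g i.1) * i.2, F, hQq F fun h => ?_, ?_, fun m' => ⟨g m', hg m'⟩⟩
  · rw [map_prod] at h
    obtain ⟨i, _, hi⟩ := (Ideal.IsPrime.prod_mem_iff (hp := Q.isPrime)).1 h
    exact hf i.1 hi
  · calc (i₀.1 : B) * ∑ i ∈ S, algebraMap R B (g i.1) * i.2 = ∑ i ∈ S, (g i.1 • (i₀.1 : B)) * i.2 := by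
          rw [Finset.mul_sum]; exact Finset.sum_congr rfl fun i _ => by rw [Algebra.smul_def]; ring
      _ = ∑ i ∈ S, (F • (i.1 : B)) * i.2 := Finset.sum_congr rfl fun i _ => by
          rw [← SetLike.val_smul, ← hg, SetLike.val_smul]
      _ = algebraMap R B F := by
          rw [Finset.sum_congr rfl fun i _ => (smul_mul_assoc F (i.1 : B) i.2), ← Finset.smul_sum, h1,
            Algebra.algebraMap_eq_smul_one]

/-- with trivial Picard group there is a global generator -/
theorem exists_gen_of_pic [Module.FaithfullyFlat R B] [Subsingleton (CommRing.Pic R)]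
    (hM : Function.Bijective (mulMap M)) : ∃ (m : M) (b : B), (m : B) * b = 1 := by
  let N : Submodule R B := ⨅ m : M, (1 : Submodule R B).comap (LinearMap.mulLeft R (m : B))
  have hN : ∀ n, n ∈ N ↔ ∀ m : M, (m : B) * n ∈ (1 : Submodule R B) := fun n => by simp [N]
  have hMN : M * N = 1 := by
    refine le_antisymm (Submodule.mul_le.2 fun m hm n hn => (hN n).1 hn ⟨m, hm⟩) ?_
    let J : Ideal R := (M * N).comap (Algebra.linearMap R B)
    suffices hJ : J = ⊤ by
      rw [Submodule.one_eq_range]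
      rintro _ ⟨r, rfl⟩
      exact (hJ ▸ trivial : r ∈ J)
    by_contra hJ
    obtain ⟨q, hq, hJq⟩ := J.exists_le_maximal hJ
    haveI := hq.isPrime
    obtain ⟨m, b, f, hf, hmb, hgen⟩ := exists_local_gen M hM q
    have hmem : f * f ∈ J := by
      show algebraMap R B (f * f) ∈ M * N
      rw [map_mul, ← hmb, mul_assoc]
      refine Submodule.mul_mem_mul m.2 ((hN _).2 fun m' => ?_)
      obtain ⟨r, hr⟩ := hgen m'
      refine Submodule.mem_one.2 ⟨r * f, ?_⟩
      have e : algebraMap R B f * (m' : B) = algebraMap R B r * (m : B) := by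
        rw [← Algebra.smul_def, ← Algebra.smul_def, ← SetLike.val_smul, ← SetLike.val_smul, hr]
      rw [map_mul, ← hmb]
      calc algebraMap R B r * ((m : B) * b) = (algebraMap R B r * (m : B)) * b := (mul_assoc _ _ _).symm
        _ = algebraMap R B f * (m' : B) * b := by rw [e]
        _ = (m' : B) * (b * ((m : B) * b)) := by rw [← hmb]; ring
    exact hf ((or_self_iff).1 (hq.isPrime.mem_or_mem (hJq hmem)))
  let U : (Submodule R B)ˣ := ⟨M, N, hMN, by rw [mul_comm]; exact hMN⟩
  haveI : FaithfulSMul R B := (faithfulSMul_iff_algebraMap_injective R B).2 fun a b hab => by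
    refine Module.FaithfullyFlat.tensorProduct_mk_injective (A := R) (B := B) R ?_
    show (1 : B) ⊗ₜ[R] a = (1 : B) ⊗ₜ[R] b
    refine (TensorProduct.rid R B).injective ?_
    simpa [Algebra.smul_def] using hab
  haveI : Module.Invertible R M := Module.Invertible.left (Submodule.tensorInvEquiv U)
  obtain ⟨e⟩ := Module.Invertible.free_iff_linearEquiv.1 (inferInstance : Module.Free R M)
  refine ⟨e.symm 1, ?_⟩
  obtain ⟨t, ht⟩ := hM.2 1
  obtain ⟨S, hS⟩ := TensorProduct.exists_finset t
  refine ⟨∑ i ∈ S, algebraMap R B (e i.1) * i.2, ?_⟩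
  rw [Finset.mul_sum, ← ht, hS, map_sum]
  refine Finset.sum_congr rfl fun i _ => ?_
  have h : (e i.1) • e.symm 1 = i.1 := by rw [← map_smul, smul_eq_mul, mul_one, e.symm_apply_apply]
  rw [mulMap_tmul, ← mul_assoc, mul_comm (e.symm 1 : B), ← Algebra.smul_def, ← SetLike.val_smul, h]

end Groth.L28.GmH1
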