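import Groth.Agent.L28.GmH1.Cocycle
import Groth.Agent.L27.LimCoh.HMaps
import Groth.Agent.L27.LimCoh.BC

/-!
First cohomology of the multiplicative group is locally trivial.
-/

set_option autoImplicit false
set_option linter.style.haveILetI false
set_option linter.unusedSectionVars false
set_option backward.isDefEq.respectTransparency.types false

universe u

open CategoryTheory CategoryTheory.Limits AlgebraicGeometry Opposite CategoryTheory.Abelian
open Groth.L10 (Nerve.N Nerve.δ Nerve.pr Nerve.bs Nerve.pr_w Nerve.δ_pr Nerve.δ_bs)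
open Groth.L28.ProEt.Cech (res res_res)
open Groth.L28.EtCartan (fn fn_fn fn_congr app_injective app_exact exists_descend eq_of_surjective exists_affine_lift)
open Groth.L27.LimCoh (secEq secEq_map δH exists_δH eq_zero_of_injective δH_map_g Hpull_δH)

namespace Groth.L28.GmH1

variable {X : Scheme.{u}}

/-- a section of the multiplicative group as a unit -/
noncomputable def toU {A : X.Etale} (a : (EtCoh.Gm X).obj.obj (op A)) : Γ(A.left, ⊤)ˣ :=
  Additive.toMul (ULift.down a)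

/-- a unit as a section of the multiplicative group -/
noncomputable def ofU {A : X.Etale} (a : Γ(A.left, ⊤)ˣ) : (EtCoh.Gm X).obj.obj (op A) :=
  ULift.up (Additive.ofMul a)

theorem ext_U {A : X.Etale} {a b : (EtCoh.Gm X).obj.obj (op A)}
    (h : (toU a : Γ(A.left, ⊤)) = toU b) : a = b :=
  ULift.ext _ _ (Additive.toMul.injective (Units.ext h))

theorem toU_res {A B : X.Etale} (g : A ⟶ B) (a : (EtCoh.Gm X).obj.obj (op B)) :
    (toU (res (EtCoh.Gm X).obj g a) : Γ(A.left, ⊤)) = fn g (toU a) := rfl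

theorem toU_add {A : X.Etale} (a b : (EtCoh.Gm X).obj.obj (op A)) :
    (toU (a + b) : Γ(A.left, ⊤)) = toU a * toU b := rfl

theorem res_sub {C : Type*} [Category C] (P : Cᵒᵖ ⥤ AddCommGrpCat.{u + 1}) {A B : C} (g : A ⟶ B)
    (a b : P.obj (op B)) : res P g (a - b) = res P g a - res P g b :=
  map_sub (P.map g.op).hom a b

theorem res_nat {F G : EtCoh.Ab X} (f : F ⟶ G) {A B : X.Etale} (g : A ⟶ B) (a : F.obj.obj (op B)) :
    f.hom.app (op A) (res F.obj g a) = res G.obj g (f.hom.app (op B) a) :=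
  NatTrans.naturality_apply f.hom g.op a

section Twist

variable {I Q : EtCoh.Ab X} {f : EtCoh.Gm X ⟶ I} {g : I ⟶ Q} {w : f ≫ g = 0}
  (hS : (ShortComplex.mk f g w).ShortExact) {V U : X.Etale} (p : V ⟶ U)
  (t : Q.obj.obj (op U)) (s : I.obj.obj (op V)) (hs : g.hom.app (op V) s = res Q.obj p t)

include hS hs

/-- the obstruction cocycle -/
theorem exists_cocycle :
    ∃ a : (EtCoh.Gm X).obj.obj (op (Nerve.N p 1)),
      f.hom.app _ a = res I.obj (Nerve.pr p (1 : Fin 2)) s - res I.obj (Nerve.pr p (0 : Fin 2)) s ∧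
      fn (Nerve.δ p (0 : Fin 3)) (toU a : Γ((Nerve.N p 1).left, ⊤)) * fn (Nerve.δ p (2 : Fin 3)) (toU a)
        = fn (Nerve.δ p (1 : Fin 3)) (toU a) := by
  have hk : ∀ k : Fin 2, g.hom.app _ (res I.obj (Nerve.pr p k) s) = res Q.obj (Nerve.bs p 1) t := fun k => by
    rw [res_nat, hs, res_res, Nerve.pr_w]
  obtain ⟨a, ha⟩ := app_exact hS (Nerve.N p 1)
    (res I.obj (Nerve.pr p (1 : Fin 2)) s - res I.obj (Nerve.pr p (0 : Fin 2)) s) (by
      show g.hom.app _ _ = 0
      rw [map_sub, hk, hk, sub_self])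
  refine ⟨a, ha, ?_⟩
  rw [← toU_res, ← toU_res, ← toU_res, ← toU_add]
  refine congrArg (fun b => ((toU b : Γ((Nerve.N p 2).left, ⊤)ˣ) : Γ((Nerve.N p 2).left, ⊤))) (app_injective hS _ ?_)
  have e : ∀ j : Fin 3, f.hom.app _ (res (EtCoh.Gm X).obj (Nerve.δ p j) a) =
      res I.obj (Nerve.pr p (j.succAbove 1)) s - res I.obj (Nerve.pr p (j.succAbove 0)) s := fun j => by
    rw [res_nat, show f.hom.app _ a = _ from ha, res_sub, res_res, res_res, Nerve.δ_pr, Nerve.δ_pr]
  show f.hom.app _ (_ + _) = f.hom.app _ _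
  rw [map_add, e, e, e]
  show (res I.obj (Nerve.pr p (2 : Fin 3)) s - res I.obj (Nerve.pr p (1 : Fin 3)) s) +
    (res I.obj (Nerve.pr p (1 : Fin 3)) s - res I.obj (Nerve.pr p (0 : Fin 3)) s) =
      res I.obj (Nerve.pr p (2 : Fin 3)) s - res I.obj (Nerve.pr p (0 : Fin 3)) s
  abel

/-- twisting by a unit makes the lift descend -/
theorem exists_lift_of_unit {a : (EtCoh.Gm X).obj.obj (op (Nerve.N p 1))}
    (ha : f.hom.app _ a = res I.obj (Nerve.pr p (1 : Fin 2)) s - res I.obj (Nerve.pr p (0 : Fin 2)) s)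
    (m : Γ(V.left, ⊤)) (hm : fn (Nerve.pr p (1 : Fin 2)) m = toU a * fn (Nerve.pr p (0 : Fin 2)) m)
    {V' U' : X.Etale} (p' : V' ⟶ U') [Surjective p'.left] (jV : V' ⟶ V) (jU : U' ⟶ U)
    (hj : p' ≫ jU = jV ≫ p) (u : Γ(V'.left, ⊤)ˣ) (hu : (u : Γ(V'.left, ⊤)) = fn jV m) :
    ∃ s' : I.obj.obj (op U'), g.hom.app (op U') s' = res Q.obj jU t := by
  obtain ⟨s', hs'⟩ := exists_descend I p' (res I.obj jV s - f.hom.app _ (ofU u)) fun Z g₁ g₂ hg => by
    show res I.obj g₁ _ = res I.obj g₂ _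
    have hw : (g₁ ≫ jV) ≫ p = (g₂ ≫ jV) ≫ p := by
      rw [Category.assoc, Category.assoc, ← hj, ← Category.assoc, hg, Category.assoc]
    let l : Z ⟶ Nerve.N p 1 := WidePullback.lift ((g₁ ≫ jV) ≫ p)
      (fun k => if k = 0 then g₁ ≫ jV else g₂ ≫ jV) fun k => by
        dsimp only
        split_ifs
        · rfl
        · exact hw.symm
    have h0 : l ≫ Nerve.pr p (0 : Fin 2) = g₁ ≫ jV := WidePullback.lift_π _ _ _ _ _
    have h1 : l ≫ Nerve.pr p (1 : Fin 2) = g₂ ≫ jV := WidePullback.lift_π _ _ _ _ _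
    have hl : res (EtCoh.Gm X).obj l a + res (EtCoh.Gm X).obj g₁ (ofU u) = res (EtCoh.Gm X).obj g₂ (ofU u) := by
      refine ext_U ?_
      rw [toU_add, toU_res, toU_res, toU_res]
      show fn l (toU a : Γ((Nerve.N p 1).left, ⊤)) * fn g₁ (u : Γ(V'.left, ⊤)) = fn g₂ (u : Γ(V'.left, ⊤))
      rw [hu, fn_fn, fn_fn, ← fn_congr h0, ← fn_congr h1, ← fn_fn, ← fn_fn, ← map_mul, hm]
    have e := congrArg (f.hom.app (op Z)) hl
    rw [map_add, res_nat, res_nat, res_nat, show f.hom.app _ a = _ from ha, res_sub, res_res, res_res, h0, h1] at e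
    rw [res_sub, res_sub, res_res, res_res, ← e]
    abel
  refine ⟨s', eq_of_surjective Q p' ?_⟩
  show res Q.obj p' (g.hom.app _ s') = res Q.obj p' (res Q.obj jU t)
  rw [← res_nat, show res I.obj p' s' = _ from hs', map_sub, res_res, hj, ← res_res, ← hs, res_nat,
    show g.hom.app (op V') (f.hom.app (op V') (ofU u)) = 0 from
      ConcreteCategory.congr_hom (congrArg (fun k => k.hom.app (op V')) w) (ofU u), sub_zero]

end Twist

section Affine

variable {I Q : EtCoh.Ab X} {f : EtCoh.Gm X ⟶ I} {g : I ⟶ Q} {w : f ≫ g = 0}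
  (hS : (ShortComplex.mk f g w).ShortExact) {U : X.Etale} [IsAffine U.left] (t : Q.obj.obj (op U))

include hS

/-- sections lift Zariski locally -/
theorem exists_lift_at (z : U.left) :
    ∃ (U' : X.Etale) (j : U' ⟶ U) (_ : IsOpenImmersion j.left), (∃ z', j.left z' = z) ∧
      ∃ s' : I.obj.obj (op U'), g.hom.app (op U') s' = res Q.obj j t := by
  obtain ⟨V, p, haff, hsurj, s, hs⟩ := exists_affine_lift hS (U := U) t
  haveI := haff
  haveI := hsurj
  obtain ⟨a, ha, hcoc⟩ := exists_cocycle hS p t s hs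
  obtain ⟨r, hr, m, b, hmb, hm⟩ := exists_eigen_at p (toU a) hcoc (U.left.toSpecΓ z)
  let D : U.left.Opens := U.left.basicOpen r
  have hz : z ∈ D := by
    show z ∈ U.left.basicOpen r
    rw [← Scheme.toSpecΓ_preimage_basicOpen]
    exact hr
  haveI : AlgebraicGeometry.Etale U.hom := U.prop
  haveI : AlgebraicGeometry.Etale V.hom := V.prop
  let U' : X.Etale := MorphismProperty.Over.mk ⊤ (D.ι ≫ U.hom) (inferInstanceAs (AlgebraicGeometry.Etale (D.ι ≫ U.hom)))
  let V' : X.Etale := MorphismProperty.Over.mk ⊤ ((p.left ⁻¹ᵁ D).ι ≫ V.hom)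
    (inferInstanceAs (AlgebraicGeometry.Etale ((p.left ⁻¹ᵁ D).ι ≫ V.hom)))
  let jU : U' ⟶ U := MorphismProperty.Over.homMk D.ι rfl
  let jV : V' ⟶ V := MorphismProperty.Over.homMk (p.left ⁻¹ᵁ D).ι rfl
  let p' : V' ⟶ U' := MorphismProperty.Over.homMk (p.left ∣_ D) (by
    show (p.left ∣_ D) ≫ D.ι ≫ U.hom = (p.left ⁻¹ᵁ D).ι ≫ V.hom
    rw [morphismRestrict_ι_assoc, MorphismProperty.Over.w p])
  haveI : Surjective p'.left := IsZariskiLocalAtTarget.restrict (P := @Surjective) ‹Surjective p.left› D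
  have hj : p' ≫ jU = jV ≫ p := MorphismProperty.Over.Hom.ext (morphismRestrict_ι _ _)
  have hr' : IsUnit (fn jU r) := by
    show IsUnit (D.ι.appTop r)
    rw [Scheme.Opens.ι_appTop]
    have e : D.ι ''ᵁ ⊤ = D := D.ι_image_top
    rw [show (homOfLE (le_top : D.ι ''ᵁ ⊤ ≤ (⊤ : U.left.Opens))).op
      = (homOfLE (le_top : D ≤ (⊤ : U.left.Opens))).op ≫ (eqToHom e).op from Subsingleton.elim _ _, Functor.map_comp]
    show IsUnit ((U.left.presheaf.map (eqToHom e).op).hom ((U.left.presheaf.map (homOfLE (le_top : D ≤ (⊤ : U.left.Opens))).op).hom r))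
    exact (RingedSpace.isUnit_res_basicOpen U.left.toRingedSpace r).map _
  have hunit : IsUnit (fn jV m) := isUnit_of_mul_isUnit_left (y := fn jV b) (by
    rw [← map_mul, hmb, fn_fn, ← fn_congr hj, ← fn_fn]
    exact hr'.map (fn p'))
  exact ⟨U', jU, inferInstanceAs (IsOpenImmersion D.ι), ⟨⟨z, hz⟩, rfl⟩,
    exists_lift_of_unit hS p t s hs ha m hm p' jV jU hj hunit.unit rfl⟩

/-- sections lift when the Picard group is trivial -/
theorem exists_lift_of_pic [Subsingleton (CommRing.Pic Γ(U.left, ⊤))] :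
    ∃ s' : I.obj.obj (op U), g.hom.app (op U) s' = t := by
  obtain ⟨V, p, haff, hsurj, s, hs⟩ := exists_affine_lift hS (U := U) t
  haveI := haff
  haveI := hsurj
  obtain ⟨a, ha, hcoc⟩ := exists_cocycle hS p t s hs
  obtain ⟨m, b, hmb, hm⟩ := exists_eigen p (toU a) hcoc
  obtain ⟨s', hs'⟩ := exists_lift_of_unit hS p t s hs ha m hm p (𝟙 V) (𝟙 U) (by simp)
    (Units.mkOfMulEqOne m b hmb) (fn_id m).symm
  exact ⟨s', hs'.trans (ConcreteCategory.congr_hom (Q.obj.map_id (op U)) t)⟩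

end Affine

/-- the standard embedding -/
theorem exists_embedding :
    ∃ (I Q : EtCoh.Ab X) (f : EtCoh.Gm X ⟶ I) (g : I ⟶ Q) (w : f ≫ g = 0),
      Injective I ∧ (ShortComplex.mk f g w).ShortExact :=
  ⟨_, _, Injective.ι (EtCoh.Gm X), cokernel.π _, cokernel.condition _, inferInstance,
    { exact := ShortComplex.exact_of_g_is_cokernel _ (cokernelIsCokernel _)
      mono_f := inferInstanceAs (Mono (Injective.ι (EtCoh.Gm X)))
      epi_g := inferInstanceAs (Epi (cokernel.π (Injective.ι (EtCoh.Gm X)))) }⟩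

/-- locally trivial classes -/
theorem exists_Hpull_eq_zero (c : EtCoh.H X (EtCoh.Gm X) 1) (x : X) :
    ∃ W : X.Opens, x ∈ W ∧ ∀ [PreservesFiniteLimits (EtCoh.pull W.ι)], EtCore.Hpull W.ι (EtCoh.Gm X) 1 c = 0 := by
  obtain ⟨I, Q, f, g, w, hI, hS⟩ := exists_embedding (X := X)
  obtain ⟨y, rfl⟩ := exists_δH hS 0 c (eq_zero_of_injective I 0 _)
  obtain ⟨O, hO, hxO, -⟩ := exists_isAffineOpen_mem_and_subset (U := (⊤ : X.Opens)) (x := x) trivial
  have hOι : IsOpenImmersion O.ι := inferInstance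
  let U : X.Etale := MorphismProperty.Over.mk ⊤ O.ι (inferInstanceAs (AlgebraicGeometry.Etale O.ι))
  haveI : IsAffine U.left := hO
  let toTop : U ⟶ EtCoh.top X := (EtCore.topIsTerminal X).from U
  obtain ⟨U', j, hjo, ⟨z, hz⟩, s', hs'⟩ := exists_lift_at hS (res Q.obj toTop (secEq Q y)) (⟨x, hxO⟩ : U.left)
  haveI := hjo
  haveI : IsOpenImmersion U'.hom := by
    rw [show U'.hom = j.left ≫ O.ι from (MorphismProperty.Over.w j).symm]
    exact MorphismProperty.comp_mem @IsOpenImmersion j.left O.ι hjo hOι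
  refine ⟨U'.hom.opensRange, ⟨z, ?_⟩, ?_⟩
  · rw [show U'.hom = j.left ≫ O.ι from (MorphismProperty.Over.w j).symm, Scheme.Hom.comp_apply, hz]
    rfl
  intro _
  set W : X.Opens := U'.hom.opensRange
  let r : W.toScheme ⟶ U'.left := U'.hom.isoOpensRange.inv
  let σ : EtCoh.top W.toScheme ⟶ (EtCoh.bc W.ι).obj U' :=
    Groth.L27.LimCoh.lift W.ι r (by
      show r ≫ U'.hom = 𝟙 _ ≫ W.ι
      rw [Category.id_comp]
      exact Scheme.Hom.isoOpensRange_inv_comp _)
  rw [Hpull_δH W.ι hS]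
  let z₀ : EtCoh.H W.toScheme ((EtCoh.pull W.ι).obj I) 0 :=
    (secEq _).symm (((EtCoh.pull W.ι).obj I).obj.map σ.op
      (((EtCoh.pullPushAdj W.ι).unit.app I).hom.app (op U') s'))
  have hy : EtCore.Hpull W.ι Q 0 y = (EtCoh.HF W.toScheme 0).map ((EtCoh.pull W.ι).map g) z₀ := by
    refine (secEq _).injective ?_
    rw [secEq_map, Groth.L27.EtSite.Hpull_apply, Groth.L27.LimCoh.secEq_HofPush, ← Groth.L27.EtSite.HF_map_apply,
      secEq_map, AddEquiv.apply_symm_apply]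
    refine Eq.trans ?_ (NatTrans.naturality_apply ((EtCoh.pull W.ι).map g).hom σ.op _).symm
    have hu : ((EtCoh.pull W.ι).map g).hom.app (op ((EtCoh.bc W.ι).obj U'))
        (((EtCoh.pullPushAdj W.ι).unit.app I).hom.app (op U') s') =
        ((EtCoh.pullPushAdj W.ι).unit.app Q).hom.app (op U') (g.hom.app (op U') s') :=
      (congrArg (fun k : I ⟶ (EtCoh.push W.ι).obj ((EtCoh.pull W.ι).obj Q) => k.hom.app (op U') s')
        ((EtCoh.pullPushAdj W.ι).unit.naturality g)).symm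
    refine Eq.trans ?_ (congrArg (((EtCoh.pull W.ι).obj Q).obj.map σ.op) hu).symm
    rw [hs', res_res]
    refine Eq.trans ?_ (congrArg (((EtCoh.pull W.ι).obj Q).obj.map σ.op)
      (NatTrans.naturality_apply ((EtCoh.pullPushAdj W.ι).unit.app Q).hom (j ≫ toTop).op (secEq Q y))).symm
    refine Eq.trans ?_ (Functor.map_comp_apply ((EtCoh.pull W.ι).obj Q).obj _ _ _)
    exact congrArg (fun l => ((EtCoh.pull W.ι).obj Q).obj.map (Quiver.Hom.op l)
      (((EtCoh.pullPushAdj W.ι).unit.app Q).hom.app (op (EtCoh.top X)) (secEq Q y)))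
      ((EtCore.bcTopIsTerminal W.ι).hom_ext _ _)
  rw [hy]
  exact δH_map_g (hS.map_of_exact (EtCoh.pull W.ι)) 0 z₀

/-- no classes on an affine scheme with trivial Picard group -/
theorem eq_zero_of_pic [IsAffine X] [Subsingleton (CommRing.Pic Γ(X, ⊤))] (c : EtCoh.H X (EtCoh.Gm X) 1) : c = 0 := by
  obtain ⟨I, Q, f, g, w, hI, hS⟩ := exists_embedding (X := X)
  obtain ⟨y, rfl⟩ := exists_δH hS 0 c (eq_zero_of_injective I 0 _)
  haveI : IsAffine (EtCoh.top X).left := inferInstanceAs (IsAffine X)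
  haveI : Subsingleton (CommRing.Pic Γ((EtCoh.top X).left, ⊤)) := inferInstanceAs (Subsingleton (CommRing.Pic Γ(X, ⊤)))
  obtain ⟨s', hs'⟩ := exists_lift_of_pic hS (U := EtCoh.top X) (secEq Q y)
  have hy : y = (EtCoh.HF X 0).map g ((secEq I).symm s') :=
    (secEq Q).injective (by rw [secEq_map, AddEquiv.apply_symm_apply, hs'])
  rw [hy]
  exact δH_map_g hS 0 _

end Groth.L28.GmH1
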