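import Groth.Agent.L28.GmH1.PointPush
import Groth.Agent.L23.QFDescent

/-!
Direct image of the multiplicative group from an Artinian local scheme.
-/

set_option autoImplicit false
set_option linter.style.haveILetI false
set_option linter.unusedSectionVars false
set_option backward.isDefEq.respectTransparency.types false

universe u

open CategoryTheory CategoryTheory.Limits AlgebraicGeometry Opposite
open Groth.L27.LimCoh (secEq secEq_map secEq_HofPush δH exists_δH exists_map_of_δH_eq_zero δH_map_g Hpull_δH map_δH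
  eq_zero_of_injective HofPush_map)

namespace Groth.L28.GmH1

theorem finite_maximalSpectrum_of_point {R : CommRingCat.{u}} [Subsingleton (Spec R)] {Z : Scheme.{u}} [IsAffine Z]
    (h : Z ⟶ Spec R) [AlgebraicGeometry.Etale h] : Finite (MaximalSpectrum Γ(Z, ⊤)) := by
  haveI : LocallyQuasiFinite h := inferInstance
  haveI : Finite Z := by
    rcases isEmpty_or_nonempty Z with he | ⟨⟨z⟩⟩
    · infer_instance
    · haveI : CompactSpace Z := inferInstance
      haveI hd : DiscreteTopology ↥(h.fiber (h z)) := inferInstance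
      have hs : Function.Surjective (h.fiberι (h z)) := fun w => by
        have : w ∈ Set.range (h.fiberι (h z)) := by
          rw [Scheme.Hom.range_fiberι]
          exact Subsingleton.elim (α := Spec R) _ _
        exact this
      haveI : DiscreteTopology Z := ((h.fiberι (h z)).isEmbedding.toHomeomorphOfSurjective hs).discreteTopology
      exact finite_of_compact_of_discrete
  haveI : Finite (PrimeSpectrum Γ(Z, ⊤)) := Finite.of_equiv Z Z.isoSpec.hom.homeomorph.toEquiv
  refine Finite.of_injective (fun m : MaximalSpectrum Γ(Z, ⊤) => (⟨m.asIdeal, m.isMaximal.isPrime⟩ : PrimeSpectrum Γ(Z, ⊤)))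
    fun m m' e => MaximalSpectrum.ext (congrArg PrimeSpectrum.asIdeal e)

variable {X Y : Scheme.{u}}

section Thick

variable {R : CommRingCat.{u}} (i : Spec R ⟶ X)
  (haff : ∀ (W : X.Opens), IsAffineOpen W → IsAffine (i ⁻¹ᵁ W).toScheme)

include haff

theorem epi_push_map_thick [Subsingleton (Spec R)] {I Q : EtCoh.Ab (Spec R)} {f : EtCoh.Gm _ ⟶ I} {g : I ⟶ Q} {w : f ≫ g = 0}
    (hS : (ShortComplex.mk f g w).ShortExact) : Epi ((EtCoh.push i).map g) := by
  refine (Sheaf.isLocallySurjective_iff_epi' AddCommGrpCat.{u + 1} _).mp ⟨fun {V} t => ?_⟩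
  refine (Groth.L27.EtSite.mem_topology_iff _).2 fun v => ?_
  obtain ⟨W, hW, hvW, -⟩ := exists_isAffineOpen_mem_and_subset (U := (⊤ : X.Opens)) (x := V.hom v) trivial
  obtain ⟨O, hO, hvO, hOW⟩ := exists_isAffineOpen_mem_and_subset (U := V.hom ⁻¹ᵁ W) (x := v) hvW
  haveI : AlgebraicGeometry.Etale V.hom := V.prop
  let V' : X.Etale := MorphismProperty.Over.mk ⊤ (O.ι ≫ V.hom) (inferInstanceAs (AlgebraicGeometry.Etale (O.ι ≫ V.hom)))
  let j : V' ⟶ V := MorphismProperty.Over.homMk O.ι rfl
  have hT : IsAffine ((EtCoh.bc i).obj V').left := by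
    show IsAffine (pullback (O.ι ≫ V.hom) i)
    let r : O.toScheme ⟶ W.toScheme := V.hom.resLE W O hOW
    have hr : r ≫ W.ι = O.ι ≫ V.hom := Scheme.Hom.resLE_comp_ι _ _
    haveI := haff W hW
    haveI : IsAffine W.toScheme := hW
    haveI : IsAffine O.toScheme := hO
    haveI : IsAffine (pullback r (i ∣_ W)) := inferInstance
    have P : IsPullback (pullback.fst r (i ∣_ W)) (pullback.snd r (i ∣_ W) ≫ (i ⁻¹ᵁ W).ι) (O.ι ≫ V.hom) i := by
      have := (IsPullback.of_hasPullback r (i ∣_ W)).paste_vert (isPullback_morphismRestrict i W)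
      rwa [hr] at this
    exact IsAffine.of_isIso P.isoPullback.inv
  let Z : Scheme.{u} := ((EtCoh.bc i).obj V').left
  let h : Z ⟶ Spec R := ((EtCoh.bc i).obj V').hom
  haveI hZ : IsAffine Z := hT
  haveI : AlgebraicGeometry.Etale h := ((EtCoh.bc i).obj V').prop
  haveI := finite_maximalSpectrum_of_point h
  have hpic : Subsingleton (CommRing.Pic Γ(Z, ⊤)) := inferInstance
  obtain ⟨s, hs⟩ := @exists_lift_of_pic _ _ _ _ _ _ hS ((EtCoh.bc i).obj V') hT (Q.obj.map ((EtCoh.bc i).map j).op t) hpic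
  exact ⟨V', j, ⟨v, hvO⟩, ⟨s, hs⟩, rfl⟩

variable [PreservesFiniteLimits (EtCoh.pull i)]

theorem push_Gm_thick [IsLocalRing R] [Subsingleton (Spec R)] :
    Subsingleton (EtCoh.H X ((EtCoh.push i).obj (EtCoh.Gm (Spec R))) 1) ∧
      Function.Injective (EtLim.HofPush i (EtCoh.Gm (Spec R)) 2) := by
  haveI : IsLocalRing Γ(Spec R, ⊤) :=
    (Scheme.ΓSpecIso R).symm.commRingCatIsoToRingEquiv.isLocalRing
  refine ⟨subsingleton_of_forall_eq 0 fun c => injective_HofPush_one i _ ((eq_zero_of_pic _).trans (map_zero _).symm), ?_⟩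
  rw [injective_iff_map_eq_zero]
  intro c hc
  obtain ⟨I, Q, f, g, w, hI, hS⟩ := exists_embedding (X := Spec R)
  haveI := push_additive i
  haveI := epi_push_map_thick i haff hS
  have hS' : ((ShortComplex.mk f g w).map (EtCoh.push i)).ShortExact :=
    { exact := hS.exact.map_of_mono_of_preservesKernel _ hS.mono_f inferInstance
      mono_f := haveI := hS.mono_f; inferInstanceAs (Mono ((EtCoh.push i).map f))
      epi_g := inferInstanceAs (Epi ((EtCoh.push i).map g)) }
  haveI : Injective ((EtCoh.push i).obj I) := injective_push i I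
  obtain ⟨y, rfl⟩ := exists_δH hS' 1 c (eq_zero_of_injective ((EtCoh.push i).obj I) 1 _)
  have h := HofPush_δH i hS' hS (𝟙 _) (𝟙 _) (𝟙 _) ((Category.comp_id _).trans (Category.id_comp _).symm)
    ((Category.comp_id _).trans (Category.id_comp _).symm) 1 y
  have h' : EtLim.HofPush i (EtCoh.Gm (Spec R)) 2 (δH hS' 1 y) = δH hS 1 (EtLim.HofPush i Q 1 y) :=
    ((congrArg (EtLim.HofPush i (EtCoh.Gm (Spec R)) 2) (HF_id _ _ _)).symm.trans h).trans
      (congrArg (fun q => δH hS 1 (EtLim.HofPush i Q 1 q)) (HF_id _ _ _))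
  obtain ⟨z, hz⟩ := exists_map_of_δH_eq_zero hS 1 _ (h'.symm.trans hc)
  have hy0 : EtLim.HofPush i Q 1 y = EtLim.HofPush i Q 1 0 :=
    hz.symm.trans ((congrArg ((EtCoh.HF _ 1).map g) (eq_zero_of_injective I 0 z)).trans
      ((map_zero ((EtCoh.HF _ 1).map g).hom).trans (map_zero (EtLim.HofPush i Q 1)).symm))
  exact (congrArg (δH hS' 1) (injective_HofPush_one i Q hy0)).trans (map_zero _)

end Thick

end Groth.L28.GmH1
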