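import Groth.Agent.L28.EtCartan.Amitsur
import Groth.Agent.L28.GmH1.Descent

/-!
Multiplicative cocycles on the Amitsur complex of an affine étale covering.
-/

set_option autoImplicit false
set_option linter.style.haveILetI false
set_option linter.unusedSectionVars false
set_option backward.isDefEq.respectTransparency.types false

universe u

open CategoryTheory CategoryTheory.Limits AlgebraicGeometry Opposite TensorProduct
open Groth.L10 (Nerve.N Nerve.δ Nerve.pr Nerve.bs Nerve.pr_w Nerve.δ_pr Nerve.δ_bs)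
open Groth.L28.EtCartan (fn fn_fn fn_congr dup dup_pr isPullback_left isPullback_last
  exists_theta isIso_pr_zero affine_and_surjective faithfullyFlat)

namespace Groth.L28.GmH1

variable {X : Scheme.{u}} {V U : X.Etale} (p : V ⟶ U)

/-- the diagonal at any level -/
noncomputable def dg (n : ℕ) : V ⟶ Nerve.N p n :=
  WidePullback.lift p (fun _ => 𝟙 V) fun _ => Category.id_comp _

theorem dg_pr (n : ℕ) (k : Fin (n + 1)) : dg p n ≫ Nerve.pr p k = 𝟙 V := WidePullback.lift_π _ _ _ _ _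

theorem dg_δ (n : ℕ) (j : Fin (n + 2)) : dg p (n + 1) ≫ Nerve.δ p j = dg p n :=
  Groth.L10.Nerve.hom_ext p fun k => by rw [Category.assoc, Nerve.δ_pr, dg_pr, dg_pr]

theorem fn_id {A : X.Etale} (x : Γ(A.left, ⊤)) : fn (𝟙 A) x = x :=
  ConcreteCategory.congr_hom (Scheme.Hom.id_appTop (X := A.left)) x

theorem fn_fn' {A B D : X.Etale} {f : A ⟶ B} {g : B ⟶ D} {h : A ⟶ D} (e : f ≫ g = h) (x : Γ(D.left, ⊤)) :
    fn f (fn g x) = fn h x := (fn_fn f g x).trans (fn_congr e x)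

theorem fn_pr_fn {n : ℕ} (k : Fin (n + 1)) (r : Γ(U.left, ⊤)) :
    fn (Nerve.pr p k) (fn p r) = fn (Nerve.bs p n) r := fn_fn' (Nerve.pr_w p k) r

theorem isPullback_pr : IsPullback (Nerve.pr p (0 : Fin 2)) (Nerve.pr p (1 : Fin 2)) p p := by
  haveI := isIso_pr_zero p
  refine (isPullback_last p 0).of_iso (Iso.refl _) (asIso (Nerve.pr p (0 : Fin 1))) (Iso.refl _) (Iso.refl _) ?_ ?_ ?_ ?_
  · show Nerve.δ p (Fin.last 1) ≫ Nerve.pr p (0 : Fin 1) = 𝟙 _ ≫ Nerve.pr p (0 : Fin 2)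
    rw [Category.id_comp, Nerve.δ_pr]
    rfl
  · show Nerve.pr p (Fin.last 1) ≫ 𝟙 _ = 𝟙 _ ≫ Nerve.pr p (1 : Fin 2)
    rw [Category.id_comp, Category.comp_id]
    rfl
  · show Nerve.bs p 0 ≫ 𝟙 _ = Nerve.pr p (0 : Fin 1) ≫ p
    rw [Category.comp_id, Nerve.pr_w]
  · show p ≫ 𝟙 _ = 𝟙 _ ≫ p
    rw [Category.id_comp, Category.comp_id]

/-- the twisted coboundary -/
noncomputable def twist (φ : Γ((Nerve.N p 1).left, ⊤)) :
    letI := (fn p).toAlgebra
    letI := (fn (Nerve.bs p 1)).toAlgebra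
    Γ(V.left, ⊤) →ₗ[Γ(U.left, ⊤)] Γ((Nerve.N p 1).left, ⊤) :=
  letI := (fn p).toAlgebra
  letI := (fn (Nerve.bs p 1)).toAlgebra
  { toFun := fun a => fn (Nerve.pr p (1 : Fin 2)) a - φ * fn (Nerve.pr p (0 : Fin 2)) a
    map_add' := fun a b => by rw [map_add, map_add]; ring
    map_smul' := fun r a => by
      show fn _ (fn p r * a) - φ * fn _ (fn p r * a) = fn (Nerve.bs p 1) r * _
      rw [map_mul, map_mul, fn_pr_fn, fn_pr_fn]
      ring }

variable [IsAffine V.left] [IsAffine U.left] [Surjective p.left]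

theorem exists_theta₀ :
    letI := (fn p).toAlgebra
    ∃ θ : Γ(V.left, ⊤) ⊗[Γ(U.left, ⊤)] Γ(V.left, ⊤) ≃+ Γ((Nerve.N p 1).left, ⊤),
      ∀ a b, θ (a ⊗ₜ b) = fn (Nerve.pr p (0 : Fin 2)) a * fn (Nerve.pr p (1 : Fin 2)) b := by
  letI := (fn p).toAlgebra
  have h := isPushout_appTop_of_isPullback (isPullback_left (isPullback_pr p))
  have hT := CommRingCat.isPushout_tensorProduct Γ(U.left, ⊤) Γ(V.left, ⊤) Γ(V.left, ⊤)
  let e := hT.isoIsPushout _ _ h
  refine ⟨e.commRingCatIsoToRingEquiv.toAddEquiv, fun y b => ?_⟩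
  have e₁ := ConcreteCategory.congr_hom (IsPushout.inl_isoIsPushout_hom _ _ hT h) y
  have e₂ := ConcreteCategory.congr_hom (IsPushout.inr_isoIsPushout_hom _ _ hT h) b
  show e.hom.hom (y ⊗ₜ b) = _
  rw [show (y ⊗ₜ[Γ(U.left, ⊤)] b) = (y ⊗ₜ 1) * (1 ⊗ₜ b) by simp, map_mul]
  exact congrArg₂ (· * ·) e₁ e₂

variable (φ : Γ((Nerve.N p 1).left, ⊤)ˣ)
  (hφ : fn (Nerve.δ p (0 : Fin 3)) (φ : Γ((Nerve.N p 1).left, ⊤)) * fn (Nerve.δ p (2 : Fin 3)) φ
    = fn (Nerve.δ p (1 : Fin 3)) φ)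

include hφ

theorem fn_dg : fn (dg p 1) (φ : Γ((Nerve.N p 1).left, ⊤)) = 1 := by
  have h := congrArg (fn (dg p 2)) hφ
  rw [map_mul, fn_fn, fn_fn, fn_fn, dg_δ, dg_δ, dg_δ] at h
  exact ((φ.isUnit.map (fn (dg p 1))).mul_eq_left).1 h

set_option maxHeartbeats 1000000 in
theorem bijective_mulMap :
    letI := (fn p).toAlgebra
    letI := (fn (Nerve.bs p 1)).toAlgebra
    Function.Bijective (mulMap (LinearMap.ker (twist p φ))) := by
  letI := (fn p).toAlgebra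
  letI := (fn (Nerve.bs p 1)).toAlgebra
  haveI := faithfullyFlat p
  set M := LinearMap.ker (twist p φ)
  obtain ⟨θ₀, hθ₀⟩ := exists_theta₀ p
  obtain ⟨θ₁, hθ₁⟩ := exists_theta p 1
  have hcomp : ∀ t, θ₁ (LinearMap.rTensor Γ(V.left, ⊤) (twist p φ) t) =
      fn (Nerve.δ p (0 : Fin 3)) (θ₀ t) - fn (Nerve.δ p (2 : Fin 3)) φ * fn (Nerve.δ p (1 : Fin 3)) (θ₀ t) := by
    intro t
    induction t using TensorProduct.induction_on with
    | zero => simp
    | tmul a b =>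
      rw [LinearMap.rTensor_tmul, hθ₁, hθ₀]
      show fn (Nerve.δ p (2 : Fin 3)) (fn (Nerve.pr p (1 : Fin 2)) a - (φ : Γ((Nerve.N p 1).left, ⊤)) * fn (Nerve.pr p (0 : Fin 2)) a) * fn (Nerve.pr p (2 : Fin 3)) b = _
      simp only [map_mul, map_sub]
      rw [fn_fn' (Nerve.δ_pr p (2 : Fin 3) (1 : Fin 2)) a, fn_fn' (Nerve.δ_pr p (2 : Fin 3) (0 : Fin 2)) a,
        fn_fn' (Nerve.δ_pr p (0 : Fin 3) (0 : Fin 2)) a, fn_fn' (Nerve.δ_pr p (0 : Fin 3) (1 : Fin 2)) b,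
        fn_fn' (Nerve.δ_pr p (1 : Fin 3) (0 : Fin 2)) a, fn_fn' (Nerve.δ_pr p (1 : Fin 3) (1 : Fin 2)) b]
      show (fn (Nerve.pr p (1 : Fin 3)) a - _ * fn (Nerve.pr p (0 : Fin 3)) a) * fn (Nerve.pr p (2 : Fin 3)) b =
        fn (Nerve.pr p (1 : Fin 3)) a * fn (Nerve.pr p (2 : Fin 3)) b -
          _ * (fn (Nerve.pr p (0 : Fin 3)) a * fn (Nerve.pr p (2 : Fin 3)) b)
      ring
    | add a b ha hb => simp only [map_add, ha, hb]; ring
  have hmul : ∀ t, fn (dg p 1) (θ₀ (LinearMap.rTensor Γ(V.left, ⊤) M.subtype t)) = mulMap M t := by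
    intro t
    induction t using TensorProduct.induction_on with
    | zero => simp
    | tmul m b =>
      rw [LinearMap.rTensor_tmul, hθ₀, map_mul, fn_fn' (dg_pr p 1 0), fn_fn' (dg_pr p 1 1), fn_id, fn_id, mulMap_tmul]
      rfl
    | add a b ha hb => simp only [map_add, ha, hb]
  -- a section killed by the twist comes from the diagonal
  have hker : ∀ w, fn (Nerve.δ p (0 : Fin 3)) w = fn (Nerve.δ p (2 : Fin 3)) φ * fn (Nerve.δ p (1 : Fin 3)) w →
      (φ : Γ((Nerve.N p 1).left, ⊤)) * w = fn (Nerve.pr p (1 : Fin 2)) (fn (dg p 1) w) := fun w hw => by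
    have h := congrArg (fn (dup p 1)) hw
    rw [map_mul, fn_fn, fn_fn, fn_fn] at h
    have e0 : dup p 1 ≫ Nerve.δ p (0 : Fin 3) = Nerve.pr p (1 : Fin 2) ≫ dg p 1 :=
      Groth.L10.Nerve.hom_ext p fun k => by
        rw [Category.assoc, Category.assoc, Nerve.δ_pr, dup_pr, dg_pr, Category.comp_id]
        fin_cases k <;> rfl
    have e1 : dup p 1 ≫ Nerve.δ p (1 : Fin 3) = 𝟙 _ :=
      Groth.L10.Nerve.hom_ext p fun k => by
        rw [Category.assoc, Nerve.δ_pr, dup_pr, Category.id_comp]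
        fin_cases k <;> rfl
    have e2 : dup p 1 ≫ Nerve.δ p (2 : Fin 3) = 𝟙 _ :=
      Groth.L10.Nerve.hom_ext p fun k => by
        rw [Category.assoc, Nerve.δ_pr, dup_pr, Category.id_comp]
        fin_cases k <;> rfl
    rw [fn_congr e0, fn_congr e1, fn_congr e2, fn_id, fn_id, ← fn_fn] at h
    exact h.symm
  have hex := Module.Flat.rTensor_exact (R := Γ(U.left, ⊤)) Γ(V.left, ⊤) (LinearMap.exact_subtype_ker_map (twist p φ))
  refine ⟨?_, fun g => ?_⟩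
  · rw [injective_iff_map_eq_zero]
    intro t ht
    refine Module.Flat.rTensor_preserves_injective_linearMap M.subtype M.subtype_injective ?_
    refine θ₀.injective ?_
    rw [map_zero, map_zero]
    have h := hker (θ₀ (LinearMap.rTensor Γ(V.left, ⊤) M.subtype t)) (sub_eq_zero.1 ((hcomp _).symm.trans
      (by rw [hex.apply_apply_eq_zero, map_zero])))
    rw [hmul, ht, map_zero] at h
    exact (φ.mul_right_eq_zero).1 h
  · let w : Γ((Nerve.N p 1).left, ⊤) := (↑φ⁻¹ : Γ((Nerve.N p 1).left, ⊤)) * fn (Nerve.pr p (1 : Fin 2)) g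
    obtain ⟨t, ht⟩ := (hex (θ₀.symm w)).1 (θ₁.injective (by
      rw [hcomp, map_zero, AddEquiv.apply_symm_apply, sub_eq_zero]
      simp only [w, map_mul]
      rw [fn_fn' (Nerve.δ_pr p (0 : Fin 3) (1 : Fin 2)), fn_fn' (Nerve.δ_pr p (1 : Fin 3) (1 : Fin 2))]
      refine ((φ.isUnit.map (fn (Nerve.δ p (0 : Fin 3)))).mul_right_inj).1 ?_
      have e : ∀ j : Fin 3, fn (Nerve.δ p j) (φ : Γ((Nerve.N p 1).left, ⊤)) * fn (Nerve.δ p j) ↑φ⁻¹ = 1 := fun j => by
        rw [← map_mul, Units.mul_inv, map_one]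
      have h0 := e 0
      have h1 := e 1
      rw [← mul_assoc, e 0, one_mul, ← mul_assoc, ← mul_assoc, hφ, e 1, one_mul]
      rfl))
    refine ⟨t, ?_⟩
    rw [← hmul, ht, AddEquiv.apply_symm_apply]
    show fn (dg p 1) (_ * _) = g
    rw [map_mul, fn_fn' (dg_pr p 1 1), fn_id]
    have hi : fn (dg p 1) (↑φ⁻¹ : Γ((Nerve.N p 1).left, ⊤)) = 1 := by
      have := congrArg (fn (dg p 1)) φ.mul_inv
      rwa [map_mul, fn_dg p φ hφ, one_mul, map_one] at this
    rw [hi, one_mul]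

/-- locally the cocycle is a coboundary -/
theorem exists_eigen_at (q : PrimeSpectrum Γ(U.left, ⊤)) :
    ∃ f ∉ q.asIdeal, ∃ m b : Γ(V.left, ⊤), m * b = fn p f ∧
      fn (Nerve.pr p (1 : Fin 2)) m = φ * fn (Nerve.pr p (0 : Fin 2)) m := by
  letI := (fn p).toAlgebra
  letI := (fn (Nerve.bs p 1)).toAlgebra
  haveI := faithfullyFlat p
  haveI := q.isPrime
  obtain ⟨m, b, f, hf, hmb, -⟩ := exists_local_gen _ (bijective_mulMap p φ hφ) q.asIdeal
  exact ⟨f, hf, m, b, hmb, sub_eq_zero.1 (LinearMap.mem_ker.1 m.2)⟩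

/-- a cocycle is a coboundary when the Picard group is trivial -/
theorem exists_eigen [Subsingleton (CommRing.Pic Γ(U.left, ⊤))] :
    ∃ m b : Γ(V.left, ⊤), m * b = 1 ∧ fn (Nerve.pr p (1 : Fin 2)) m = φ * fn (Nerve.pr p (0 : Fin 2)) m := by
  letI := (fn p).toAlgebra
  letI := (fn (Nerve.bs p 1)).toAlgebra
  haveI := faithfullyFlat p
  obtain ⟨m, b, hmb⟩ := exists_gen_of_pic _ (bijective_mulMap p φ hφ)
  exact ⟨m, b, hmb, sub_eq_zero.1 (LinearMap.mem_ker.1 m.2)⟩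

end Groth.L28.GmH1
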