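import Groth.Agent.L28.GmH1.Lift
import Groth.Prelude.Def_GSzGalSym

/-!
The Kummer map is surjective when the Picard group vanishes.
-/

set_option autoImplicit false
set_option linter.style.haveILetI false
set_option linter.unusedSectionVars false
set_option backward.isDefEq.respectTransparency.types false

universe u

open CategoryTheory CategoryTheory.Limits AlgebraicGeometry Opposite CategoryTheory.Abelian
open Groth.L27.LimCoh (secEq secEq_map δH exists_δH)

namespace Groth.L28.GmH1

variable {X : Scheme.{u}}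

theorem exists_unitClass (y : EtCoh.H X (EtCoh.Gm X) 0) : ∃ a, GalSym.unitClass X a = y := by
  obtain ⟨φ, rfl⟩ := (Ext.mk₀_bijective _ _).2 y
  let h := (EtCore.constAdj X).homEquiv _ _ φ
  refine ⟨Additive.toMul (ULift.down (h (ULift.up 1) :
    ULift.{u + 1} (Additive ((Γ(X, ⊤) : Type u)ˣ)))), congrArg Ext.mk₀ ?_⟩
  refine ((EtCore.constAdj X).homEquiv _ _).injective ?_
  rw [GalSym.unitMor, Equiv.apply_symm_apply]
  refine AddCommGrpCat.hom_ext (AddMonoidHom.ext fun n => ?_)
  refine (GalSym.unitHom_apply X _ n).trans ?_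
  show n.down • h (ULift.up 1) = h n
  rw [← map_zsmul]
  exact congrArg h (ULift.ext _ _ (by simp))

theorem exists_kumClass [IsAffine X] [Subsingleton (CommRing.Pic Γ(X, ⊤))] {m : ℕ}
    (hm : Epi (EtCoh.powMap X m)) (c : EtCoh.H X (EtCoh.mu X m) 1) : ∃ a, GalSym.kumClass hm a = c := by
  obtain ⟨y, hy⟩ := exists_δH (EtSix.kummerShortExact hm) 0 c (eq_zero_of_pic _)
  obtain ⟨a, rfl⟩ := exists_unitClass y
  exact ⟨a, hy⟩

end Groth.L28.GmH1
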