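import Groth.Agent.L28.GmH1.Kummer
import Groth.Agent.L28.GmTorsion.Basic
import Groth.Agent.L10.RegularUFD
import Groth.Prelude.Def_EtBase
import Mathlib.FieldTheory.IsSepClosed
import Mathlib.RingTheory.UniqueFactorizationDomain.GCDMonoid
import Mathlib.GroupTheory.MonoidLocalization.UniqueFactorization
import Mathlib.RingTheory.Localization.Away.Basic

/-!
The Kummer group of a punctured strictly henselian regular local ring.
-/

set_option autoImplicit false
set_option linter.style.haveILetI false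
set_option linter.unusedSectionVars false
set_option backward.isDefEq.respectTransparency.types false

universe u

open CategoryTheory CategoryTheory.Limits AlgebraicGeometry Opposite CategoryTheory.Abelian
open Groth.L27.LimCoh (secEq secEq_map δH exists_δH exists_map_of_δH_eq_zero δH_map_g)

namespace Groth.L28.GmH1

variable {X : Scheme.{u}}

/-- the Kummer map on units -/
noncomputable def kum {n : ℕ} (hn : Epi (EtCoh.powMap X n)) :
    Additive (Γ(X, ⊤))ˣ →+ EtCoh.H X (EtCoh.mu X n) 1 :=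
  (δH (EtSix.kummerShortExact hn) 0).comp ((secEq (EtCoh.Gm X)).symm.toAddMonoidHom.comp
    (AddEquiv.ulift : ULift.{u + 1} (Additive (Γ(X, ⊤))ˣ) ≃+ Additive (Γ(X, ⊤))ˣ).symm.toAddMonoidHom)

theorem kum_surjective {n : ℕ} (hn : Epi (EtCoh.powMap X n)) [IsAffine X] [Subsingleton (CommRing.Pic Γ(X, ⊤))] :
    Function.Surjective (kum hn) := fun c => by
  obtain ⟨y, hy⟩ := exists_δH (EtSix.kummerShortExact hn) 0 c (eq_zero_of_pic _)
  refine ⟨ULift.down (secEq (EtCoh.Gm X) y : ULift.{u + 1} (Additive (Γ(X, ⊤))ˣ)), Eq.trans ?_ hy⟩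
  exact congrArg (δH (EtSix.kummerShortExact hn) 0) ((secEq (EtCoh.Gm X)).symm_apply_apply y)

theorem kum_eq_zero_iff {n : ℕ} (hn : Epi (EtCoh.powMap X n)) (a : Additive (Γ(X, ⊤))ˣ) :
    kum hn a = 0 ↔ ∃ b, n • b = a := by
  have hpow : ∀ z, secEq (EtCoh.Gm X) ((EtCoh.HF X 0).map (EtCoh.powMap X n) z) = n • secEq (EtCoh.Gm X) z :=
    fun z => (secEq_map _ z).trans (Groth.L27.MuConst.powMap_app _ _ _)
  constructor
  · intro h
    obtain ⟨z, hz⟩ := exists_map_of_δH_eq_zero (EtSix.kummerShortExact hn) 0 _ h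
    refine ⟨ULift.down (secEq (EtCoh.Gm X) z : ULift.{u + 1} (Additive (Γ(X, ⊤))ˣ)), ?_⟩
    have e := congrArg (secEq (EtCoh.Gm X)) hz
    exact congrArg ULift.down ((hpow z).symm.trans (e.trans ((secEq (EtCoh.Gm X)).apply_symm_apply _)))
  · rintro ⟨b, rfl⟩
    let z := (secEq (EtCoh.Gm X)).symm (ULift.up b)
    have e : (secEq (EtCoh.Gm X)).symm (ULift.up (n • b)) = (EtCoh.HF X 0).map (EtCoh.powMap X n) z :=
      (secEq (EtCoh.Gm X)).injective (by
        rw [hpow, AddEquiv.apply_symm_apply, AddEquiv.apply_symm_apply]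
        rfl)
    exact (congrArg (δH (EtSix.kummerShortExact hn) 0) e).trans (δH_map_g (EtSix.kummerShortExact hn) 0 z)

/-- units of a strictly henselian local ring have roots -/
theorem exists_nth_root {A : Type u} [CommRing A] (hA : EtCoh.IsStrictlyHenselianLocalRing A) {n : ℕ}
    (hu : IsUnit (n : A)) (a : Aˣ) : ∃ w : Aˣ, w ^ n = a := by
  obtain ⟨hh, hs⟩ := hA
  haveI := hh
  haveI := hs
  have hn : n ≠ 0 := fun h => not_isUnit_zero (M₀ := A) (by simpa [h] using hu)
  have hn' : (n : IsLocalRing.ResidueField A) ≠ 0 := by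
    rw [← map_natCast (IsLocalRing.residue A)]
    exact (hu.map _).ne_zero
  haveI : NeZero (n : IsLocalRing.ResidueField A) := ⟨hn'⟩
  obtain ⟨r, hr⟩ := IsSepClosed.exists_pow_nat_eq (IsLocalRing.residue A a) n
  obtain ⟨b₀, rfl⟩ := IsLocalRing.residue_surjective r
  have hb₀ : IsLocalRing.residue A b₀ ≠ 0 := fun h => by
    rw [h, zero_pow hn] at hr
    exact (a.isUnit.map (IsLocalRing.residue A)).ne_zero hr.symm
  obtain ⟨b, hb, -⟩ := HenselianLocalRing.is_henselian (Polynomial.X ^ n - Polynomial.C (a : A))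
    (Polynomial.monic_X_pow_sub_C _ hn) b₀ (by rw [← IsLocalRing.residue_eq_zero_iff]; simp [hr])
    (by
      rw [← IsLocalRing.residue_ne_zero_iff_isUnit]
      simp only [Polynomial.derivative_sub, Polynomial.derivative_X_pow, Polynomial.derivative_C, sub_zero,
        Polynomial.eval_mul, Polynomial.eval_natCast, Polynomial.eval_C, Polynomial.eval_pow, Polynomial.eval_X, map_mul,
        map_natCast, map_pow]
      exact mul_ne_zero hn' (pow_ne_zero _ hb₀))
  have hb' : b ^ n = a := by simpa [Polynomial.IsRoot, sub_eq_zero] using hb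
  have hbu : IsUnit b := (isUnit_pow_iff hn).1 (hb' ▸ a.isUnit)
  exact ⟨hbu.unit, Units.ext (by simpa using hb')⟩

theorem prime_of_parameter (A : Type u) [CommRing A] [IsRegularLocalRing A] (x : A)
    (hx : x ∈ IsLocalRing.maximalIdeal A) (hx2 : x ∉ IsLocalRing.maximalIdeal A ^ 2) : Prime x := by
  have hx0 : x ≠ 0 := fun h0 => hx2 (h0 ▸ Submodule.zero_mem _)
  obtain ⟨hq, -⟩ := Groth.L01.regular_quotient_of_notMem_sq hx hx2
  haveI := Groth.L01.isDomain_of_regular A
  haveI := hq
  exact (Ideal.span_singleton_prime hx0).mp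
    ((Ideal.Quotient.isDomain_iff_prime _).mp (Groth.L01.isDomain_of_regular _))

/-- units of the localisation away from a prime element -/
theorem exists_unit_mul_zpow {A : Type u} [CommRing A] [IsDomain A] {x : A} (hx : Prime x) {R : Type u} [CommRing R]
    [Algebra A R] [IsLocalization.Away x R] (ξ : Rˣ) (hξ : (ξ : R) = algebraMap A R x) (r : Rˣ) :
    ∃ (v : Aˣ) (k : ℤ), r = Units.map (algebraMap A R : A →* R) v * ξ ^ k := by
  obtain ⟨i, s, hs⟩ := IsLocalization.Away.surj x (r : R)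
  obtain ⟨j, t, ht⟩ := IsLocalization.Away.surj x ((r⁻¹ : Rˣ) : R)
  have hst : s * t = x ^ (i + j) := by
    refine IsLocalization.injective R (powers_le_nonZeroDivisors_of_noZeroDivisors hx.ne_zero) ?_
    rw [map_mul, map_pow, ← hs, ← ht, pow_add]
    calc (r : R) * algebraMap A R x ^ i * (((r⁻¹ : Rˣ) : R) * algebraMap A R x ^ j)
        = ((r : R) * ((r⁻¹ : Rˣ) : R)) * (algebraMap A R x ^ i * algebraMap A R x ^ j) := by ring
      _ = _ := by rw [Units.mul_inv, one_mul]
  obtain ⟨k, -, hk⟩ := (dvd_prime_pow hx _).1 ⟨t, hst.symm⟩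
  obtain ⟨v, hv⟩ := hk.symm
  refine ⟨v, (k : ℤ) - i, ?_⟩
  rw [zpow_sub, ← mul_assoc, eq_mul_inv_iff_mul_eq, zpow_natCast, zpow_natCast]
  refine Units.ext ?_
  simp only [Units.val_mul, Units.val_pow_eq_pow_val, Units.coe_map, MonoidHom.coe_coe, hξ]
  rw [hs, ← hv, map_mul, map_pow, mul_comm]

theorem natDvd_of_pow_eq {A : Type u} [CommRing A] [IsDomain A] {x : A} (hx : Prime x) {R : Type u} [CommRing R]
    [Algebra A R] [IsLocalization.Away x R] (ξ : Rˣ) (hξ : (ξ : R) = algebraMap A R x) {n : ℕ} {k : ℤ} (b : Rˣ)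
    (h : b ^ n = ξ ^ k) : (n : ℤ) ∣ k := by
  obtain ⟨v, j, rfl⟩ := exists_unit_mul_zpow hx ξ hξ b
  have h' : Units.map (algebraMap A R : A →* R) (v ^ n) = ξ ^ (k - j * n) := by
    rw [zpow_sub, ← h, mul_pow, map_pow, zpow_mul, zpow_natCast, mul_inv_cancel_right]
  refine ⟨j, ?_⟩
  have aux : ∀ (w : Aˣ) (c : ℕ), Units.map (algebraMap A R : A →* R) w = ξ ^ c → c = 0 := fun w c hw => by
    by_contra hc
    have := congrArg (fun z : Rˣ => (z : R)) hw
    simp only [Units.coe_map, MonoidHom.coe_coe, Units.val_pow_eq_pow_val, hξ, ← map_pow] at this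
    exact hx.not_unit ((isUnit_pow_iff hc).1
      (IsLocalization.injective R (powers_le_nonZeroDivisors_of_noZeroDivisors hx.ne_zero) this ▸ w.isUnit))
  obtain ⟨c, hc | hc⟩ := Int.eq_nat_or_neg (k - j * n)
  · rw [hc, zpow_natCast] at h'
    rw [aux _ c h'] at hc
    push_cast at hc
    linarith
  · rw [hc, zpow_neg, zpow_natCast, ← inv_eq_iff_eq_inv, ← map_inv] at h'
    rw [aux _ c h'] at hc
    push_cast at hc
    linarith

set_option synthInstance.maxHeartbeats 400000 in
set_option maxHeartbeats 1000000 in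
/-- the Kummer group of the punctured spectrum -/
theorem nonempty_equiv (A : Type u) [CommRing A] [IsRegularLocalRing A]
    (hA : EtCoh.IsStrictlyHenselianLocalRing A) (x : A) (hx : x ∈ IsLocalRing.maximalIdeal A)
    (hx2 : x ∉ IsLocalRing.maximalIdeal A ^ 2) (n : ℕ) (hn : IsUnit (n : A)) :
    Nonempty (EtCoh.H (Spec (CommRingCat.of (Localization.Away x)))
      (EtCoh.mu (Spec (CommRingCat.of (Localization.Away x))) n) 1 ≃+ ZMod n) := by
  have hp := prime_of_parameter A x hx hx2
  haveI := Groth.L01.isDomain_of_regular A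
  haveI := Groth.L10.RegUFD.isUFD A
  let R := Localization.Away x
  haveI : IsDomain R := IsLocalization.Away.isDomain R hp.ne_zero
  haveI : UniqueFactorizationMonoid R := inferInstanceAs (UniqueFactorizationMonoid (Localization (Submonoid.powers x)))
  let X := Spec (CommRingCat.of R)
  let e : R ≃+* Γ(X, ⊤) := (Scheme.ΓSpecIso (CommRingCat.of R)).symm.commRingCatIsoToRingEquiv
  haveI : IsDomain Γ(X, ⊤) := e.symm.toMulEquiv.isDomain
  haveI : UniqueFactorizationMonoid Γ(X, ⊤) := e.toMulEquiv.uniqueFactorizationMonoid ‹_›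
  haveI : IsGCDMonoid Γ(X, ⊤) := ⟨UniqueFactorizationMonoid.toGCDMonoid _⟩
  haveI : Subsingleton (CommRing.Pic Γ(X, ⊤)) := inferInstance
  have hepi : Epi (EtCoh.powMap X n) := Groth.L28.GmTorsion.epi_powMap (by
    have := hn.map (e.toRingHom.comp (algebraMap A R))
    rwa [map_natCast] at this)
  let ξ : Rˣ := (IsLocalization.Away.algebraMap_isUnit x).unit
  have hξ : (ξ : R) = algebraMap A R x := rfl
  let E : Rˣ ≃* Γ(X, ⊤)ˣ := Units.mapEquiv e.toMulEquiv
  let φ : ℤ →+ EtCoh.H X (EtCoh.mu X n) 1 := zmultiplesHom _ (kum hepi (Additive.ofMul (E ξ)))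
  have hφ : ∀ k : ℤ, φ k = kum hepi (Additive.ofMul (E (ξ ^ k))) := fun k => by
    show k • kum hepi _ = _
    rw [← map_zsmul, map_zpow]
    rfl
  have hsurj : Function.Surjective φ := fun c => by
    obtain ⟨a, rfl⟩ := kum_surjective hepi c
    obtain ⟨r, hr⟩ := E.surjective (Additive.toMul a)
    obtain ⟨v, k, rfl⟩ := exists_unit_mul_zpow hp ξ hξ r
    obtain ⟨w, rfl⟩ := exists_nth_root hA hn v
    refine ⟨k, ?_⟩
    rw [hφ, show a = Additive.ofMul (E (Units.map (algebraMap A R : A →* R) (w ^ n))) + Additive.ofMul (E (ξ ^ k)) from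
      (congrArg Additive.ofMul hr).symm.trans (by rw [map_mul, ofMul_mul])]
    have h0 : kum hepi (Additive.ofMul (E (Units.map (algebraMap A R : A →* R) (w ^ n)))) = 0 :=
      (kum_eq_zero_iff hepi _).2 ⟨Additive.ofMul (E (Units.map (algebraMap A R : A →* R) w)), by
        rw [map_pow, map_pow]; rfl⟩
    rw [map_add, h0, zero_add]
  have hker : φ.ker = AddSubgroup.zmultiples (n : ℤ) := by
    ext k
    rw [AddMonoidHom.mem_ker, hφ, kum_eq_zero_iff, Int.mem_zmultiples_iff]
    constructor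
    · rintro ⟨b, hb⟩
      obtain ⟨r, hr⟩ := E.surjective (Additive.toMul b)
      refine natDvd_of_pow_eq hp ξ hξ r (E.injective ?_)
      rw [map_pow, hr]
      exact congrArg Additive.toMul hb
    · rintro ⟨j, rfl⟩
      refine ⟨Additive.ofMul (E (ξ ^ j)), ?_⟩
      rw [mul_comm, zpow_mul, zpow_natCast, map_pow]
      rfl
  exact ⟨((QuotientAddGroup.quotientKerEquivOfSurjective φ hsurj).symm.trans
    (QuotientAddGroup.quotientAddEquivOfEq hker)).trans (Int.quotientZMultiplesNatEquivZMod n)⟩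

end Groth.L28.GmH1
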